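import Cfsg.Prelude.Def_GeometricClasses
import Cfsg.Agent.Lib.Classical.TensorCore

/-!
Coordinates of a tensor power: pure tensors, single-factor operators and the elements of the wreath stabiliser.
-/

set_option autoImplicit false
set_option linter.unusedSectionVars false

open Matrix

namespace CfsgLib.Classical.TensorPower

variable {F : Type*} [Field F] {ι : Type} [Fintype ι] [DecidableEq ι] {k t : ℕ}
  (e : ι ≃ (Fin t → Fin k)) (P : GL ι F)

/-- The pure tensor. -/
def pure (u : Fin t → Fin k → F) : ι → F :=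
  (P : Matrix ι ι F) *ᵥ ((fun a : Fin t → Fin k => ∏ l, u l (a l)) ∘ e)

/-- The operator of a matrix acting on the factor `i`, in coordinates. -/
def op0 (i : Fin t) (A : Matrix (Fin k) (Fin k) F) : Matrix (Fin t → Fin k) (Fin t → Fin k) F :=
  fun x y => if ∀ l, l ≠ i → x l = y l then A (x i) (y i) else 0

/-- The operator of a matrix acting on the factor `i`. -/
def op (i : Fin t) (A : Matrix (Fin k) (Fin k) F) : Matrix ι ι F :=
  (P : Matrix ι ι F) * Matrix.reindex e.symm e.symm (op0 i A) * ((P⁻¹ : GL ι F) : Matrix ι ι F)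

theorem op0_mulVec (i : Fin t) (A : Matrix (Fin k) (Fin k) F) (u : Fin t → Fin k → F) :
    op0 i A *ᵥ (fun a => ∏ l, u l (a l)) = fun a => ∏ l, Function.update u i (A *ᵥ u i) l (a l) := by
  funext x
  rw [Matrix.mulVec, dotProduct]
  simp only [op0, ite_mul, zero_mul]
  rw [← Finset.sum_filter]
  have hset : (Finset.univ.filter fun y : Fin t → Fin k => ∀ l, l ≠ i → x l = y l) =
      Finset.univ.image fun c => Function.update x i c := by
    ext y
    simp only [Finset.mem_filter, Finset.mem_univ, true_and, Finset.mem_image]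
    constructor
    · intro h
      refine ⟨y i, funext fun l => ?_⟩
      by_cases hl : l = i
      · subst hl; simp
      · rw [Function.update_of_ne hl, h l hl]
    · rintro ⟨c, rfl⟩ l hl
      rw [Function.update_of_ne hl]
  rw [hset, Finset.sum_image fun c _ c' _ h => by simpa using congrFun h i]
  rw [← Finset.mul_prod_erase Finset.univ (fun l => Function.update u i (A *ᵥ u i) l (x l)) (Finset.mem_univ i),
    Function.update_self, Matrix.mulVec, dotProduct, Finset.sum_mul]
  refine Finset.sum_congr rfl fun c _ => ?_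
  rw [← Finset.mul_prod_erase Finset.univ (fun l => u l (Function.update x i c l)) (Finset.mem_univ i),
    Function.update_self, mul_assoc]
  congr 2
  refine Finset.prod_congr rfl fun l hl => ?_
  have hl' := (Finset.mem_erase.mp hl).1
  rw [Function.update_of_ne hl', Function.update_of_ne hl']

theorem op_pure (i : Fin t) (A : Matrix (Fin k) (Fin k) F) (u : Fin t → Fin k → F) :
    op e P i A *ᵥ pure e P u = pure e P (Function.update u i (A *ᵥ u i)) := by
  rw [op, pure, pure, Matrix.mulVec_mulVec, Matrix.mul_assoc, ← Units.val_mul P⁻¹, inv_mul_cancel, Units.val_one,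
    Matrix.mul_one, ← Matrix.mulVec_mulVec]
  congr 1
  rw [← op0_mulVec]
  funext j
  simp only [Matrix.reindex_apply, Matrix.mulVec, dotProduct, Matrix.submatrix_apply, Equiv.symm_symm,
    Function.comp_apply]
  exact e.sum_comp (fun y => op0 i A (e j) y * ∏ l, u l (y l))

theorem ext_pure {M N : Matrix ι ι F} (h : ∀ u, M *ᵥ pure e P u = N *ᵥ pure e P u) : M = N := by
  have h1 : M * (P : Matrix ι ι F) = N * (P : Matrix ι ι F) := by
    refine Matrix.ext_of_mulVec_single fun i => ?_
    have := h fun l => Pi.single (e i l) 1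
    rw [pure, Matrix.mulVec_mulVec, Matrix.mulVec_mulVec] at this
    rwa [show ((fun a : Fin t → Fin k => ∏ l, (Pi.single (e i l) 1 : Fin k → F) (a l)) ∘ e) = Pi.single i 1 from
      funext fun j => by
        by_cases hj : j = i
        · subst hj; simp
        · obtain ⟨l, hl⟩ : ∃ l, e j l ≠ e i l := Function.ne_iff.mp fun he => hj (e.injective he)
          simp only [Function.comp_apply, Pi.single_eq_of_ne hj]
          exact Finset.prod_eq_zero (Finset.mem_univ l) (Pi.single_eq_of_ne hl _)] at this
  have h2 := congrArg (· * ((P⁻¹ : GL ι F) : Matrix ι ι F)) h1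
  simpa [Matrix.mul_assoc, ← Units.val_mul] using h2

theorem pure_smul_update (u : Fin t → Fin k → F) (i : Fin t) (c : F) (v : Fin k → F) :
    pure e P (Function.update u i (c • v)) = c • pure e P (Function.update u i v) := by
  rw [pure, pure, ← Matrix.mulVec_smul]
  congr 1
  funext j
  simp only [Function.comp_apply, Pi.smul_apply, smul_eq_mul]
  rw [← Finset.mul_prod_erase Finset.univ _ (Finset.mem_univ i),
    ← Finset.mul_prod_erase Finset.univ (fun l => Function.update u i v l (e j l)) (Finset.mem_univ i),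
    Function.update_self, Function.update_self, Pi.smul_apply, smul_eq_mul, mul_assoc]
  congr 2
  refine Finset.prod_congr rfl fun l hl => ?_
  rw [Function.update_of_ne (Finset.mem_erase.mp hl).1, Function.update_of_ne (Finset.mem_erase.mp hl).1]

theorem pure_add_update (u : Fin t → Fin k → F) (i : Fin t) (v w : Fin k → F) :
    pure e P (Function.update u i (v + w)) =
      pure e P (Function.update u i v) + pure e P (Function.update u i w) := by
  rw [pure, pure, pure, ← Matrix.mulVec_add]
  congr 1
  funext j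
  simp only [Function.comp_apply, Pi.add_apply]
  have key : ∀ z : Fin k → F, ∏ l, Function.update u i z l (e j l) =
      z (e j i) * ∏ l ∈ Finset.univ.erase i, u l (e j l) := fun z => by
    rw [← Finset.mul_prod_erase Finset.univ _ (Finset.mem_univ i), Function.update_self]
    congr 1
    refine Finset.prod_congr rfl fun l hl => ?_
    rw [Function.update_of_ne (Finset.mem_erase.mp hl).1]
  rw [key, key, key, Pi.add_apply, add_mul]

theorem op_mul (i : Fin t) (A B : Matrix (Fin k) (Fin k) F) : op e P i A * op e P i B = op e P i (A * B) :=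
  ext_pure e P fun u => by
    rw [← Matrix.mulVec_mulVec, op_pure, op_pure, op_pure, Function.update_self, Matrix.mulVec_mulVec,
      Function.update_idem]

theorem op_comm {i j : Fin t} (h : i ≠ j) (A B : Matrix (Fin k) (Fin k) F) :
    op e P i A * op e P j B = op e P j B * op e P i A :=
  ext_pure e P fun u => by
    rw [← Matrix.mulVec_mulVec, ← Matrix.mulVec_mulVec, op_pure, op_pure, op_pure, op_pure,
      Function.update_of_ne h, Function.update_of_ne h.symm, Function.update_comm h]

theorem op_add (i : Fin t) (A B : Matrix (Fin k) (Fin k) F) : op e P i (A + B) = op e P i A + op e P i B :=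
  ext_pure e P fun u => by
    rw [Matrix.add_mulVec, op_pure, op_pure, op_pure, Matrix.add_mulVec, pure_add_update]

theorem op_smul (i : Fin t) (c : F) (A : Matrix (Fin k) (Fin k) F) : op e P i (c • A) = c • op e P i A :=
  ext_pure e P fun u => by
    rw [Matrix.smul_mulVec, op_pure, op_pure, Matrix.smul_mulVec, pure_smul_update]

theorem op_one (i : Fin t) : op e P i (1 : Matrix (Fin k) (Fin k) F) = 1 :=
  ext_pure e P fun u => by rw [op_pure, Matrix.one_mulVec, Matrix.one_mulVec, Function.update_eq_self]

theorem op_zero (i : Fin t) : op e P i (0 : Matrix (Fin k) (Fin k) F) = 0 := by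
  rw [← zero_smul F (1 : Matrix (Fin k) (Fin k) F), op_smul, zero_smul]

/-- The action of an element of the wreath stabiliser on pure tensors. -/
def ActsAs (g : GL ι F) (σ : Equiv.Perm (Fin t)) (gs : Fin t → GL (Fin k) F) : Prop :=
  ∀ u, (g : Matrix ι ι F) *ᵥ pure e P u = pure e P fun l => (gs l : Matrix (Fin k) (Fin k) F) *ᵥ u (σ l)

/-- The elements that act on pure tensors factorwise, up to a permutation of the factors. -/
def wreath : Subgroup (GL ι F) where
  carrier := {g | ∃ σ gs, ActsAs e P g σ gs}
  one_mem' := ⟨1, fun _ => 1, fun u => by simp⟩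
  mul_mem' := by
    rintro g h ⟨σ, gs, hg⟩ ⟨τ, hs, hh⟩
    refine ⟨σ.trans τ, fun l => gs l * hs (σ l), fun u => ?_⟩
    rw [Units.val_mul, ← Matrix.mulVec_mulVec, hh, hg]
    congr 1
    funext l
    rw [Units.val_mul, ← Matrix.mulVec_mulVec]
    rfl
  inv_mem' := by
    rintro g ⟨σ, gs, hg⟩
    refine ⟨σ.symm, fun l => (gs (σ.symm l))⁻¹, fun u => ?_⟩
    have h := congrArg (fun x => ((g⁻¹ : GL ι F) : Matrix ι ι F) *ᵥ x)
      (hg fun l => ((gs (σ.symm l))⁻¹ : GL (Fin k) F).1 *ᵥ u (σ.symm l))
    simp only [Matrix.mulVec_mulVec, ← Units.val_mul, inv_mul_cancel, Units.val_one, Matrix.one_mulVec,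
      Equiv.symm_apply_apply, mul_inv_cancel] at h
    exact h.symm

theorem reindex_pure (g : GL (Fin t → Fin k) F) (u : Fin t → Fin k → F) :
    ((MulAut.conj P (Cfsg.Geo.glReindex e.symm g) : GL ι F) : Matrix ι ι F) *ᵥ pure e P u =
      (P : Matrix ι ι F) *ᵥ (((g : Matrix (Fin t → Fin k) (Fin t → Fin k) F) *ᵥ fun a => ∏ l, u l (a l)) ∘ e) := by
  rw [MulAut.conj_apply, pure, Units.val_mul, Units.val_mul, Matrix.mulVec_mulVec,
    Matrix.mul_assoc, ← Units.val_mul P⁻¹, inv_mul_cancel, Units.val_one, Matrix.mul_one, ← Matrix.mulVec_mulVec]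
  congr 1
  show (Matrix.reindexAlgEquiv F F e.symm (g : Matrix _ _ F)) *ᵥ _ = _
  rw [Matrix.reindexAlgEquiv_apply, Matrix.reindex_apply]
  funext j
  simp only [Matrix.mulVec, dotProduct, Matrix.submatrix_apply, Equiv.symm_symm, Function.comp_apply]
  exact e.sum_comp (fun y => (g : Matrix (Fin t → Fin k) (Fin t → Fin k) F) (e j) y * ∏ l, u l (y l))

theorem tensorWreath_le_wreath : Cfsg.Geo.tensorWreathSubgroup k t e P ≤ wreath e P := by
  rw [Cfsg.Geo.tensorWreathSubgroup, Cfsg.Geo.tensorWreathStandard, Subgroup.map_map, MonoidHom.map_closure,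
    Subgroup.closure_le]
  rintro _ ⟨g, hg, rfl⟩
  rcases hg with ⟨gs, hgs⟩ | ⟨σ, hσ⟩
  · refine ⟨1, gs, fun u => ?_⟩
    show ((MulAut.conj P (Cfsg.Geo.glReindex e.symm g) : GL ι F) : Matrix ι ι F) *ᵥ _ = _
    rw [reindex_pure, pure]
    congr 1
    funext j
    simp only [Function.comp_apply, Matrix.mulVec, dotProduct, hgs, Equiv.Perm.one_apply]
    rw [Finset.prod_sum, Finset.univ_pi_univ]
    refine Finset.sum_bij' (fun y _ l _ => y l) (fun p _ l => p l (Finset.mem_univ l)) (by simp) (by simp)
      (fun _ _ => rfl) (fun _ _ => rfl) fun y _ => ?_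
    rw [← Finset.prod_mul_distrib]
    exact (Finset.prod_attach Finset.univ
      (fun l => (gs l : Matrix (Fin k) (Fin k) F) (e j l) (y l) * u l (y l))).symm
  · refine ⟨σ.symm, fun _ => 1, fun u => ?_⟩
    show ((MulAut.conj P (Cfsg.Geo.glReindex e.symm g) : GL ι F) : Matrix ι ι F) *ᵥ _ = _
    rw [reindex_pure, pure]
    congr 1
    funext j
    simp only [Function.comp_apply, Matrix.mulVec, dotProduct, hσ, ite_mul, one_mul, zero_mul,
      Finset.sum_ite_eq', Finset.mem_univ, if_true, Units.val_one]
    exact Finset.prod_equiv σ (by simp) (fun l _ => by simp [Matrix.one_apply, Finset.sum_ite_eq])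

end CfsgLib.Classical.TensorPower
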