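import Cfsg.Prelude.Def_GeometricClasses
import Cfsg.Agent.Lib.Classical.TensorCore

/-!
Self-adjoint operators with scalar square on symplectic spaces of dimension two and four in characteristic two.
-/

set_option autoImplicit false
set_option linter.unusedSectionVars false

open Matrix

namespace CfsgLib.Classical.TensorPower

variable {F : Type*} [Field F] {k : ℕ}

/-- Self-adjoint for the form, with scalar square, and alternating when `alt` holds. -/
def IsW (f : (Fin k → F) → (Fin k → F) → F) (alt : Prop) (A : Matrix (Fin k) (Fin k) F) : Prop :=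
  (∀ x y, f (A *ᵥ x) y = f x (A *ᵥ y)) ∧ (alt → ∀ x, f (A *ᵥ x) x = 0) ∧ ∃ c : F, A * A = c • 1

/-- What the non-maximality argument uses about one factor. -/
structure FactorData (f : (Fin k → F) → (Fin k → F) → F) (alt : Prop) : Prop where
  add : ∀ A D, IsW f alt A → IsW f alt D → IsW f alt (A + D)
  seed : ∃ (A : Matrix (Fin k) (Fin k) F) (S : GL (Fin k) F) (v : Fin k → F), IsW f alt A ∧ A * A = 0 ∧
    (∀ x y, f ((S : Matrix (Fin k) (Fin k) F) *ᵥ x) ((S : Matrix (Fin k) (Fin k) F) *ᵥ y) = f x y) ∧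
    A *ᵥ v = 0 ∧ A *ᵥ ((S : Matrix (Fin k) (Fin k) F) *ᵥ v) ≠ 0

section Generic

variable {f : (Fin k → F) → (Fin k → F) → F} (hf : Cfsg.Geo.IsSymplecticForm f) (h2 : (2 : F) = 0)
include hf

theorem f_zero_left (y : Fin k → F) : f 0 y = 0 := by
  have := hf.bilinear.smul_left 0 0 y
  simpa using this

theorem f_zero_right (y : Fin k → F) : f y 0 = 0 := by
  have := hf.bilinear.smul_right 0 y 0
  simpa using this

theorem f_sub_right (v x y : Fin k → F) : f v (x - y) = f v x - f v y := by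
  rw [sub_eq_add_neg, ← neg_one_smul F y, hf.bilinear.add_right, hf.bilinear.smul_right]
  ring

/-- A vector pairing to one with the first and to zero with the second of two independent vectors. -/
theorem exists_dual {x z : Fin k → F} (h : ∀ c d : F, c • x + d • z = 0 → c = 0 ∧ d = 0) :
    ∃ a, f x a = 1 ∧ f z a = 0 := by
  have hz : z ≠ 0 := fun e => one_ne_zero (h 0 1 (by rw [e]; simp)).2
  obtain ⟨b, hb⟩ := (hf.nondegenerate z hz).2
  obtain ⟨a, ha⟩ : ∃ a, f z a = 0 ∧ f x a ≠ 0 := by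
    by_contra hall
    push Not at hall
    have hzero : x + (-(f x b) / f z b) • z = 0 := by
      by_contra hne
      obtain ⟨y, hy⟩ := (hf.nondegenerate _ hne).2
      apply hy
      have h0 := hall (y - (f z y / f z b) • b) (by
        rw [f_sub_right hf, hf.bilinear.smul_right, div_mul_cancel₀ _ hb, sub_self])
      rw [f_sub_right hf, hf.bilinear.smul_right] at h0
      rw [hf.bilinear.add_left, hf.bilinear.smul_left]
      field_simp at h0 ⊢
      linear_combination h0
    exact one_ne_zero (h 1 _ (by rw [one_smul]; exact hzero)).1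
  exact ⟨(f x a)⁻¹ • a, by rw [hf.bilinear.smul_right, inv_mul_cancel₀ ha.2],
    by rw [hf.bilinear.smul_right, ha.1, mul_zero]⟩

theorem isW_one (alt : Prop) : IsW f alt 1 :=
  ⟨fun x y => by simp, fun _ x => by rw [Matrix.one_mulVec]; exact hf.alternating x, 1, by simp⟩

theorem IsW.smul {alt : Prop} {A : Matrix (Fin k) (Fin k) F} (h : IsW f alt A) (a : F) : IsW f alt (a • A) := by
  obtain ⟨h1, h3, c, hc⟩ := h
  refine ⟨fun x y => ?_, fun ha x => ?_, a * a * c, ?_⟩
  · rw [Matrix.smul_mulVec, Matrix.smul_mulVec, hf.bilinear.smul_left, hf.bilinear.smul_right, h1]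
  · rw [Matrix.smul_mulVec, hf.bilinear.smul_left, h3 ha, mul_zero]
  · rw [Matrix.smul_mul, Matrix.mul_smul, hc, smul_smul, smul_smul, mul_assoc]

theorem IsW.bracket {alt : Prop} (hd : FactorData f alt) {A D : Matrix (Fin k) (Fin k) F} (hA : IsW f alt A)
    (hD : IsW f alt D) : ∃ c : F, A * D + D * A = c • 1 := by
  obtain ⟨c, hc⟩ := (hd.add A D hA hD).2.2
  obtain ⟨a, ha⟩ := hA.2.2
  obtain ⟨b, hb⟩ := hD.2.2
  refine ⟨c - a - b, ?_⟩
  rw [sub_smul, sub_smul, ← hc, ← ha, ← hb, add_mul, mul_add, mul_add]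
  abel

theorem IsW.conj {alt : Prop} {A : Matrix (Fin k) (Fin k) F} (h : IsW f alt A) (S : GL (Fin k) F) {μ : F}
    (hμ : μ ≠ 0) (hS : ∀ x y, μ * f ((S : Matrix (Fin k) (Fin k) F) *ᵥ x) ((S : Matrix (Fin k) (Fin k) F) *ᵥ y) = f x y) :
    IsW f alt ((S : Matrix (Fin k) (Fin k) F) * A * ((S⁻¹ : GL (Fin k) F) : Matrix (Fin k) (Fin k) F)) := by
  obtain ⟨h1, h3, c, hc⟩ := h
  have hinv : ∀ x, (S : Matrix (Fin k) (Fin k) F) *ᵥ (((S⁻¹ : GL (Fin k) F) : Matrix (Fin k) (Fin k) F) *ᵥ x) = x :=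
    fun x => by rw [Matrix.mulVec_mulVec, ← Units.val_mul, mul_inv_cancel, Units.val_one, Matrix.one_mulVec]
  refine ⟨fun x y => ?_, fun ha x => ?_, c, ?_⟩
  · obtain ⟨x, rfl⟩ : ∃ x', (S : Matrix (Fin k) (Fin k) F) *ᵥ x' = x := ⟨_, hinv x⟩
    obtain ⟨y, rfl⟩ : ∃ y', (S : Matrix (Fin k) (Fin k) F) *ᵥ y' = y := ⟨_, hinv y⟩
    simp only [← Matrix.mulVec_mulVec, Matrix.mulVec_mulVec (M := ((S⁻¹ : GL (Fin k) F) : Matrix (Fin k) (Fin k) F))
      (N := (S : Matrix (Fin k) (Fin k) F)), ← Units.val_mul, inv_mul_cancel, Units.val_one, Matrix.one_mulVec]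
    refine mul_left_cancel₀ hμ ?_
    rw [hS, hS, h1]
  · obtain ⟨x, rfl⟩ : ∃ x', (S : Matrix (Fin k) (Fin k) F) *ᵥ x' = x := ⟨_, hinv x⟩
    simp only [← Matrix.mulVec_mulVec, Matrix.mulVec_mulVec (M := ((S⁻¹ : GL (Fin k) F) : Matrix (Fin k) (Fin k) F))
      (N := (S : Matrix (Fin k) (Fin k) F)), ← Units.val_mul, inv_mul_cancel, Units.val_one, Matrix.one_mulVec]
    refine mul_left_cancel₀ hμ ?_
    rw [hS, mul_zero, h3 ha]
  · simp only [Matrix.mul_assoc]
    rw [← Matrix.mul_assoc ((S⁻¹ : GL (Fin k) F) : Matrix (Fin k) (Fin k) F) (S : Matrix (Fin k) (Fin k) F),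
      ← Units.val_mul, inv_mul_cancel, Units.val_one, Matrix.one_mul, ← Matrix.mul_assoc A A, hc,
      Matrix.smul_mul, Matrix.one_mul, Matrix.mul_smul, ← Units.val_mul, mul_inv_cancel, Units.val_one]

include h2

/-- The transvection of a vector. -/
theorem exists_transvection (w : Fin k → F) : ∃ S : GL (Fin k) F,
    (∀ x, (S : Matrix (Fin k) (Fin k) F) *ᵥ x = x + f x w • w) ∧
    ∀ x y, f ((S : Matrix (Fin k) (Fin k) F) *ᵥ x) ((S : Matrix (Fin k) (Fin k) F) *ᵥ y) = f x y := by
  let T : (Fin k → F) →ₗ[F] (Fin k → F) :=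
    { toFun := fun x => x + f x w • w
      map_add' := fun x y => by rw [hf.bilinear.add_left, add_smul]; abel
      map_smul' := fun c x => by simp [hf.bilinear.smul_left, smul_smul] }
  have hT : ∀ x, LinearMap.toMatrix' T *ᵥ x = x + f x w • w := fun x => by rw [LinearMap.toMatrix'_mulVec]; rfl
  have hsq : LinearMap.toMatrix' T * LinearMap.toMatrix' T = 1 := by
    refine Matrix.ext_of_mulVec_single fun i => ?_
    rw [← Matrix.mulVec_mulVec, hT, hT, Matrix.one_mulVec, hf.bilinear.add_left, hf.bilinear.smul_left,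
      hf.alternating, mul_zero, add_zero, add_assoc, ← add_smul, ← two_mul, h2, zero_mul, zero_smul, add_zero]
  refine ⟨⟨_, _, hsq, hsq⟩, hT, fun x y => ?_⟩
  show f (LinearMap.toMatrix' T *ᵥ x) (LinearMap.toMatrix' T *ᵥ y) = f x y
  rw [hT, hT, hf.bilinear.add_left, hf.bilinear.add_right, hf.bilinear.add_right, hf.bilinear.smul_left,
    hf.bilinear.smul_left, hf.bilinear.smul_right, hf.bilinear.smul_right, hf.alternating, hf.skew w y]
  linear_combination (f y w * f x w) * h2 - (f y w * f x w) * h2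

omit h2 in
/-- The form from its Gram matrix. -/
theorem f_eq (x y : Fin k → F) : f x y = x ⬝ᵥ (Cfsg.Geo.gramMatrix f *ᵥ y) := by
  rw [← TensorNonMax.gram_expand (g := f) (τ := id) hf.bilinear.add_left hf.bilinear.smul_left hf.bilinear.add_right
    hf.bilinear.smul_right]
  simp only [Cfsg.Geo.formOfGram, id_eq, dotProduct, Matrix.mulVec, Finset.mul_sum, mul_assoc]

omit h2 in
/-- The sum of two self-adjoint operators. -/
theorem selfadj_add {A D : Matrix (Fin k) (Fin k) F} (hA : ∀ x y, f (A *ᵥ x) y = f x (A *ᵥ y))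
    (hD : ∀ x y, f (D *ᵥ x) y = f x (D *ᵥ y)) (x y : Fin k → F) : f ((A + D) *ᵥ x) y = f x ((A + D) *ᵥ y) := by
  rw [Matrix.add_mulVec, Matrix.add_mulVec, hf.bilinear.add_left, hf.bilinear.add_right, hA, hD]

/-- The square-zero operator of two orthogonal vectors. -/
theorem exists_pairOp {e g : Fin k → F} (heg : f e g = 0) : ∃ A : Matrix (Fin k) (Fin k) F,
    (∀ x, A *ᵥ x = f x e • g + f x g • e) ∧ (∀ x y, f (A *ᵥ x) y = f x (A *ᵥ y)) ∧
    (∀ x, f (A *ᵥ x) x = 0) ∧ A * A = 0 := by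
  let T : (Fin k → F) →ₗ[F] (Fin k → F) :=
    { toFun := fun x => f x e • g + f x g • e
      map_add' := fun x y => by rw [hf.bilinear.add_left, hf.bilinear.add_left, add_smul, add_smul]; abel
      map_smul' := fun c x => by simp [hf.bilinear.smul_left, smul_smul] }
  have hT : ∀ x, LinearMap.toMatrix' T *ᵥ x = f x e • g + f x g • e := fun x => by
    rw [LinearMap.toMatrix'_mulVec]; rfl
  refine ⟨LinearMap.toMatrix' T, hT, fun x y => ?_, fun x => ?_, ?_⟩
  · rw [hT, hT, hf.bilinear.add_left, hf.bilinear.add_right, hf.bilinear.smul_left, hf.bilinear.smul_left,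
      hf.bilinear.smul_right, hf.bilinear.smul_right, hf.skew g y, hf.skew e y]
    linear_combination -(f x e * f y g + f x g * f y e) * h2
  · rw [hT, hf.bilinear.add_left, hf.bilinear.smul_left, hf.bilinear.smul_left, hf.skew g x, hf.skew e x]
    linear_combination -(f x e * f x g) * h2
  · refine Matrix.ext_of_mulVec_single fun i => ?_
    rw [← Matrix.mulVec_mulVec, hT, hT, Matrix.zero_mulVec]
    simp only [hf.bilinear.add_left, hf.bilinear.smul_left, hf.alternating, heg, hf.skew g e, neg_zero, mul_zero,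
      add_zero, zero_smul]

end Generic

/-- Two-dimensional factors. -/
theorem factorData_two {f : (Fin 2 → F) → (Fin 2 → F) → F} (hf : Cfsg.Geo.IsSymplecticForm f) (h2 : (2 : F) = 0) :
    FactorData f False := by
  have hfe : ∀ x y, f x y = f (Pi.single 0 1) (Pi.single 1 1) * (x 0 * y 1 + x 1 * y 0) := fun x y => by
    rw [f_eq hf]
    simp only [dotProduct, Matrix.mulVec, Cfsg.Geo.gramMatrix, Fin.sum_univ_two, hf.alternating,
      hf.skew (Pi.single 1 1) (Pi.single 0 1)]
    linear_combination -(f (Pi.single 0 1) (Pi.single 1 1) * x 1 * y 0) * h2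
  have hg : f (Pi.single 0 1) (Pi.single 1 1) ≠ 0 := fun h => by
    obtain ⟨x, hx⟩ := (hf.nondegenerate (Pi.single 0 (1 : F)) (by simp)).2
    exact hx (by rw [hfe, h, zero_mul])
  refine ⟨fun A D hA hD => ⟨selfadj_add hf hA.1 hD.1, False.elim, ?_⟩, ?_⟩
  · have h00 : (A + D) 0 0 = (A + D) 1 1 := by
      have h := selfadj_add hf hA.1 hD.1 (Pi.single 0 1) (Pi.single 1 1)
      rw [hfe ((A + D) *ᵥ _), hfe (Pi.single 0 1) ((A + D) *ᵥ _), Matrix.mulVec_single_one,
        Matrix.mulVec_single_one] at h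
      simpa [hg] using h
    generalize A + D = M at h00
    refine ⟨M 0 0 * M 0 0 + M 0 1 * M 1 0, ?_⟩
    ext i j
    fin_cases i <;> fin_cases j <;> simp [Matrix.mul_apply, Fin.sum_univ_two, h00]
    · linear_combination (M 1 1 * M 0 1) * h2
    · linear_combination (M 1 1 * M 1 0) * h2
    · ring
  · set e : Fin 2 → F := Pi.single 0 1 with he
    set g : Fin 2 → F := Pi.single 1 1 with hg'
    obtain ⟨T, hT, hTf⟩ := exists_transvection hf h2 ((f e g)⁻¹ • g)
    let L : (Fin 2 → F) →ₗ[F] (Fin 2 → F) :=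
      { toFun := fun x => f x e • e
        map_add' := fun x y => by rw [hf.bilinear.add_left, add_smul]
        map_smul' := fun c x => by simp [hf.bilinear.smul_left, smul_smul] }
    have hL : ∀ x, LinearMap.toMatrix' L *ᵥ x = f x e • e := fun x => by rw [LinearMap.toMatrix'_mulVec]; rfl
    have hsa : ∀ x y, f (LinearMap.toMatrix' L *ᵥ x) y = f x (LinearMap.toMatrix' L *ᵥ y) := fun x y => by
      rw [hL, hL, hf.bilinear.smul_left, hf.bilinear.smul_right, hf.skew e y]
      linear_combination -(f y e * f x e) * h2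
    have hsq : LinearMap.toMatrix' L * LinearMap.toMatrix' L = 0 := by
      refine Matrix.ext_of_mulVec_single fun i => ?_
      rw [← Matrix.mulVec_mulVec, hL, hL, hf.bilinear.smul_left, hf.alternating, mul_zero, zero_smul,
        Matrix.zero_mulVec]
    refine ⟨_, T, e, ⟨hsa, False.elim, 0, by rw [hsq, zero_smul]⟩, hsq, hTf,
      by rw [hL, hf.alternating, zero_smul], ?_⟩
    rw [hT, hL, hf.bilinear.add_left, hf.bilinear.smul_left, hf.bilinear.smul_right, hf.alternating, zero_add,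
      inv_mul_cancel₀ hg, one_mul, hf.bilinear.smul_left, hf.skew g e]
    exact smul_ne_zero (mul_ne_zero (inv_ne_zero hg) (neg_ne_zero.2 hg)) (by simp [he])

/-- An alternating matrix of size four. -/
def altFour (a b c d e g : F) : Matrix (Fin 4) (Fin 4) F :=
  !![0, a, b, c; -a, 0, d, e; -b, -d, 0, g; -c, -e, -g, 0]

/-- The dual of an alternating matrix of size four. -/
def altDual (G : Matrix (Fin 4) (Fin 4) F) : Matrix (Fin 4) (Fin 4) F :=
  altFour (-G 2 3) (G 1 3) (-G 1 2) (-G 0 3) (G 0 2) (-G 0 1)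

/-- The Pfaffian of an alternating matrix of size four. -/
def pfaff (G : Matrix (Fin 4) (Fin 4) F) : F := G 0 1 * G 2 3 - G 0 2 * G 1 3 + G 0 3 * G 1 2

/-- The bilinear form of the Pfaffian. -/
def pfaffPolar (G M : Matrix (Fin 4) (Fin 4) F) : F :=
  G 0 1 * M 2 3 + G 2 3 * M 0 1 - G 0 2 * M 1 3 - G 1 3 * M 0 2 + G 0 3 * M 1 2 + G 1 2 * M 0 3

theorem eq_altFour {M : Matrix (Fin 4) (Fin 4) F} (h0 : ∀ i, M i i = 0) (h1 : ∀ i j, M j i = -M i j) :
    M = altFour (M 0 1) (M 0 2) (M 0 3) (M 1 2) (M 1 3) (M 2 3) := by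
  ext i j
  fin_cases i <;> fin_cases j <;> simp [altFour, h0] <;> exact h1 _ _

theorem altDual_mul_self (a b c d e g : F) :
    altDual (altFour a b c d e g) * altFour a b c d e g = pfaff (altFour a b c d e g) • 1 := by
  ext i j
  fin_cases i <;> fin_cases j <;> simp [altDual, altFour, pfaff, Matrix.mul_apply, Fin.sum_univ_four] <;> ring

theorem altDual_mul_sq (a b c d e g a' b' c' d' e' g' : F) :
    (altDual (altFour a b c d e g) * altFour a' b' c' d' e' g') *
        (altDual (altFour a b c d e g) * altFour a' b' c' d' e' g') =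
      pfaffPolar (altFour a b c d e g) (altFour a' b' c' d' e' g') •
          (altDual (altFour a b c d e g) * altFour a' b' c' d' e' g') -
        (pfaff (altFour a b c d e g) * pfaff (altFour a' b' c' d' e' g')) • 1 := by
  ext i j
  fin_cases i <;> fin_cases j <;>
    simp [altDual, altFour, pfaff, pfaffPolar, Matrix.mul_apply, Fin.sum_univ_four] <;> ring

/-- Four-dimensional factors. -/
theorem factorData_four {f : (Fin 4 → F) → (Fin 4 → F) → F} (hf : Cfsg.Geo.IsSymplecticForm f) (h2 : (2 : F) = 0) :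
    FactorData f True := by
  set G := Cfsg.Geo.gramMatrix f with hGdef
  have hG0 : ∀ i, G i i = 0 := fun i => hf.alternating _
  have hG1 : ∀ i j, G j i = -G i j := fun i j => hf.skew _ _
  have hGu : IsUnit G := by
    rw [← Matrix.mulVec_injective_iff_isUnit]
    intro x y hxy
    by_contra hne
    obtain ⟨z, hz⟩ := (hf.nondegenerate (x - y) (sub_ne_zero.2 hne)).1
    apply hz
    rw [f_eq hf, ← hGdef, Matrix.mulVec_sub, hxy, sub_self, dotProduct_zero]
  have hdG : altDual G * G = pfaff G • 1 := by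
    rw [eq_altFour hG0 hG1]; exact altDual_mul_self ..
  have hpf : pfaff G ≠ 0 := fun h => by
    rw [h, zero_smul] at hdG
    have hd0 : altDual G = 0 := hGu.mul_left_eq_zero.1 hdG
    have e1 := congrFun (congrFun hd0 0) 1
    have e2 := congrFun (congrFun hd0 0) 2
    have e3 := congrFun (congrFun hd0 0) 3
    have e4 := congrFun (congrFun hd0 1) 2
    have e5 := congrFun (congrFun hd0 1) 3
    have e6 := congrFun (congrFun hd0 2) 3
    simp [altDual, altFour] at e1 e2 e3 e4 e5 e6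
    apply hGu.ne_zero
    rw [eq_altFour hG0 hG1, e1, e2, e3, e4, e5, e6]
    ext i j
    fin_cases i <;> fin_cases j <;> simp [altFour]
  have key : ∀ A : Matrix (Fin 4) (Fin 4) F, (∀ x y, f (A *ᵥ x) y = f x (A *ᵥ y)) → (∀ x, f (A *ᵥ x) x = 0) →
      ∃ p : F, (pfaff G * pfaff G) • (A * A) = (pfaffPolar G (G * A) * pfaff G) • A - p • 1 := fun A ha hb => by
    have hM : ∀ i j, (G * A) i j = f (Pi.single i 1) (A *ᵥ Pi.single j 1) := fun i j => by
      rw [f_eq hf, ← hGdef, Matrix.mulVec_mulVec, Matrix.mulVec_single_one, single_dotProduct, one_mul,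
        Matrix.col_apply]
    have hM0 : ∀ i, (G * A) i i = 0 := fun i => by rw [hM, ← ha, hb]
    have hM1 : ∀ i j, (G * A) j i = -(G * A) i j := fun i j => by rw [hM, hM, ← ha, hf.skew]
    refine ⟨pfaff G * pfaff (G * A), ?_⟩
    have h : altDual G * (G * A) = pfaff G • A := by rw [← mul_assoc, hdG, Matrix.smul_mul, one_mul]
    have h' : (altDual G * (G * A)) * (altDual G * (G * A)) =
        pfaffPolar G (G * A) • (altDual G * (G * A)) - (pfaff G * pfaff (G * A)) • 1 := by
      rw [eq_altFour hG0 hG1, eq_altFour (M := altFour _ _ _ _ _ _ * A) ?_ ?_]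
      · exact altDual_mul_sq ..
      · rw [← eq_altFour hG0 hG1]; exact hM0
      · rw [← eq_altFour hG0 hG1]; exact hM1
    rwa [h, Matrix.smul_mul, Matrix.mul_smul, smul_smul, smul_smul] at h'
  have zero_pol : ∀ A, IsW f True A → pfaffPolar G (G * A) = 0 := fun A hA => by
    obtain ⟨p, hp⟩ := key A hA.1 (hA.2.1 trivial)
    obtain ⟨c, hc⟩ := hA.2.2
    rw [hc, smul_smul] at hp
    by_contra hs
    have hne := mul_ne_zero hs hpf
    obtain ⟨a, rfl⟩ : ∃ a : F, A = a • 1 := ⟨(pfaffPolar G (G * A) * pfaff G)⁻¹ * (pfaff G * pfaff G * c + p), by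
      rw [← smul_smul, add_smul, hp, sub_add_cancel, smul_smul, inv_mul_cancel₀ hne, one_smul]⟩
    apply hs
    simp only [Matrix.mul_smul, Matrix.mul_one, pfaffPolar, Matrix.smul_apply, smul_eq_mul]
    linear_combination (a * (G 0 1 * G 2 3 - G 0 2 * G 1 3 + G 0 3 * G 1 2)) * h2
  refine ⟨fun A D hA hD => ?_, ?_⟩
  · have hsa := selfadj_add hf hA.1 hD.1
    have hal : ∀ x, f ((A + D) *ᵥ x) x = 0 := fun x => by
      rw [Matrix.add_mulVec, hf.bilinear.add_left, hA.2.1 trivial, hD.2.1 trivial, add_zero]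
    obtain ⟨p, hp⟩ := key _ hsa hal
    have hs : pfaffPolar G (G * (A + D)) = 0 := by
      have e1 := zero_pol A hA
      have e2 := zero_pol D hD
      simp only [Matrix.mul_add, pfaffPolar, Matrix.add_apply] at e1 e2 ⊢
      linear_combination e1 + e2
    refine ⟨hsa, fun _ => hal, (pfaff G * pfaff G)⁻¹ * -p, ?_⟩
    rw [← smul_smul, neg_smul, eq_inv_smul_iff₀ (mul_ne_zero hpf hpf), hp, hs, zero_mul, zero_smul, zero_sub]
  · set e : Fin 4 → F := Pi.single 0 1 with he
    obtain ⟨g, hg, hind⟩ : ∃ g, f e g = 0 ∧ ∀ c d : F, c • e + d • g = 0 → c = 0 ∧ d = 0 := by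
      have hfin : ∀ j : Fin 4, ∃ l : Fin 4, l ≠ 0 ∧ l ≠ j := by decide
      obtain ⟨j, hj⟩ : ∃ j, f e (Pi.single j 1) ≠ 0 := by
        by_contra h
        push Not at h
        obtain ⟨x, hx⟩ := (hf.nondegenerate e (by simp [he])).2
        apply hx
        rw [f_eq hf, he, single_dotProduct, one_mul, Matrix.mulVec, dotProduct]
        exact Finset.sum_eq_zero fun j _ => by rw [Cfsg.Geo.gramMatrix, ← he, h j, zero_mul]
      obtain ⟨l, hl0, hlj⟩ := hfin j
      refine ⟨Pi.single l 1 - (f e (Pi.single l 1) / f e (Pi.single j 1)) • Pi.single j 1, ?_, fun c d h => ?_⟩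
      · rw [f_sub_right hf, hf.bilinear.smul_right, div_mul_cancel₀ _ hj, sub_self]
      · have hd : d = 0 := by simpa [he, hl0, hlj] using congrFun h l
        subst hd
        exact ⟨by simpa [he] using congrFun h 0, rfl⟩
    obtain ⟨A, hA, hsa, hal, hsq⟩ := exists_pairOp hf h2 hg
    obtain ⟨w, hw1, hw2⟩ := exists_dual hf hind
    obtain ⟨S, hS, hSf⟩ := exists_transvection hf h2 w
    refine ⟨A, S, e, ⟨hsa, fun _ => hal, 0, by rw [hsq, zero_smul]⟩, hsq, hSf, ?_, ?_⟩
    · rw [hA, hf.alternating, hg, zero_smul, zero_smul, add_zero]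
    · rw [hS, hA, hw1, one_smul, hf.bilinear.add_left, hf.bilinear.add_left, hf.alternating, hg, hf.skew w e, hw1,
        hf.skew w g, hw2]
      intro h
      have := (hind 0 (-1) (by simpa using h)).2
      exact one_ne_zero (neg_eq_zero.1 this)

end CfsgLib.Classical.TensorPower
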