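import Cfsg.Agent.Lib.Classical.TensorPower.Core
import Cfsg.Agent.Lib.Classical.TensorPower.SmallFactor
import Cfsg.Agent.Lib.Classical.OrthMaxBasic

/-!
The orthogonal stabiliser of a tensor power of a small symplectic space is contained in a larger proper subgroup.
-/

set_option autoImplicit false
set_option linter.unusedSectionVars false

open Matrix Module QuadraticMap CfsgLib.Orth
open scoped commutatorElement

namespace CfsgLib.Classical.TensorPower

variable {F : Type*} [Field F] {ι : Type} [Fintype ι] [DecidableEq ι] {k t : ℕ}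

/-- The operators spanned by the admissible operators on single factors. -/
def opSpan (e : ι ≃ (Fin t → Fin k)) (P : GL ι F) (f : (Fin k → F) → (Fin k → F) → F) (alt : Prop) :
    Submodule F (Matrix ι ι F) :=
  Submodule.span F {M | ∃ i A, IsW f alt A ∧ M = op e P i A}

/-- The matrices whose conjugation preserves a space of matrices. -/
def conjStab (W : Submodule F (Matrix ι ι F)) : Subgroup (GL ι F) where
  carrier := {g | ∀ M, M ∈ W ↔ (g : Matrix ι ι F) * M * ((g⁻¹ : GL ι F) : Matrix ι ι F) ∈ W}
  one_mem' := fun M => by simp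
  mul_mem' := fun {g h} hg hh M => by
    simpa [mul_assoc] using (hh M).trans (hg _)
  inv_mem' := fun {g} hg M => by
    have := hg (((g⁻¹ : GL ι F) : Matrix ι ι F) * M * (g : Matrix ι ι F))
    simp only [mul_assoc, Units.mul_inv, mul_one, Units.mul_inv_cancel_left] at this
    simpa [mul_assoc] using this.symm

theorem mem_conjStab {s : Set (Matrix ι ι F)} {g : GL ι F}
    (h : ∀ M ∈ s, (g : Matrix ι ι F) * M * ((g⁻¹ : GL ι F) : Matrix ι ι F) ∈ Submodule.span F s)
    (h' : ∀ M ∈ s, ((g⁻¹ : GL ι F) : Matrix ι ι F) * M * (g : Matrix ι ι F) ∈ Submodule.span F s) :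
    g ∈ conjStab (Submodule.span F s) := by
  have key : ∀ a b : Matrix ι ι F, (∀ M ∈ s, a * M * b ∈ Submodule.span F s) →
      ∀ M ∈ Submodule.span F s, a * M * b ∈ Submodule.span F s := fun a b hab M hM => by
    refine Submodule.span_induction (fun x hx => hab x hx) ?_ ?_ ?_ hM
    · simp
    · intro x y _ _ hx hy
      rw [mul_add, add_mul]
      exact add_mem hx hy
    · intro c x _ hx
      rw [Matrix.mul_smul, Matrix.smul_mul]
      exact Submodule.smul_mem _ c hx
  refine fun M => ⟨key _ _ h M, fun hM => ?_⟩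
  simpa [mul_assoc] using key _ _ h' _ hM

variable (e : ι ≃ (Fin t → Fin k)) (P : GL ι F)

/-- The coordinate change of the pure tensors spans everything. -/
theorem span_pure : Submodule.span F (Set.range (pure e P)) = ⊤ := by
  refine Submodule.eq_top_iff'.2 fun v => ?_
  rw [show v = (P : Matrix ι ι F) *ᵥ (((P⁻¹ : GL ι F) : Matrix ι ι F) *ᵥ v) by
    rw [Matrix.mulVec_mulVec, ← Units.val_mul, mul_inv_cancel, Units.val_one, Matrix.one_mulVec]]
  generalize ((P⁻¹ : GL ι F) : Matrix ι ι F) *ᵥ v = w
  rw [pi_eq_sum_univ' w, Matrix.mulVec_sum]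
  refine Submodule.sum_mem _ fun i _ => ?_
  rw [Matrix.mulVec_smul]
  refine Submodule.smul_mem _ _ (Submodule.subset_span ⟨fun l => Pi.single (e i l) 1, ?_⟩)
  rw [pure]
  congr 1
  funext j
  by_cases hj : j = i
  · subst hj; simp
  · obtain ⟨l, hl⟩ : ∃ l, e j l ≠ e i l := Function.ne_iff.mp fun he => hj (e.injective he)
    simp only [Function.comp_apply, Pi.single_eq_of_ne hj]
    exact Finset.prod_eq_zero (Finset.mem_univ l) (Pi.single_eq_of_ne hl _)

theorem polar_ext (Q : QuadraticForm F (ι → F)) {a b a' b' : Matrix ι ι F}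
    (h : ∀ u w, polar Q (a *ᵥ pure e P u) (b *ᵥ pure e P w) = polar Q (a' *ᵥ pure e P u) (b' *ᵥ pure e P w))
    (x y : ι → F) : polar Q (a *ᵥ x) (b *ᵥ y) = polar Q (a' *ᵥ x) (b' *ᵥ y) := by
  have := LinearMap.ext_on_range (span_pure e P)
    (f := LinearMap.compl₁₂ (polarBilin Q) (Matrix.toLin' a) (Matrix.toLin' b))
    (g := LinearMap.compl₁₂ (polarBilin Q) (Matrix.toLin' a') (Matrix.toLin' b'))
    fun u => LinearMap.ext_on_range (span_pure e P) fun w => by simpa using h u w
  simpa using LinearMap.congr_fun₂ this x y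

/-- The hypotheses of the non-maximality argument. -/
structure Setup (Q : QuadraticForm F (ι → F)) (f : (Fin k → F) → (Fin k → F) → F) (alt : Prop) (c : F) : Prop where
  two : (2 : F) = 0
  c_ne : c ≠ 0
  symp : Cfsg.Geo.IsSymplecticForm f
  form : ∀ u w, polar Q (pure e P u) (pure e P w) = c * ∏ l, f (u l) (w l)
  sing : ∀ u, Q (pure e P u) = 0
  data : FactorData f alt
  le : 2 ≤ t
  halt : alt ∨ 3 ≤ t

variable {e P} {Q : QuadraticForm F (ι → F)} {f : (Fin k → F) → (Fin k → F) → F} {alt : Prop} {c : F}

/-- A matrix preserving the polar form and the singularity of pure tensors preserves the quadratic form. -/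
theorem Setup.isometry (hs : Setup e P Q f alt c) {g : Matrix ι ι F}
    (hB : ∀ x y, polar Q (g *ᵥ x) (g *ᵥ y) = polar Q x y) (hQ : ∀ u, Q (g *ᵥ pure e P u) = 0) (x : ι → F) :
    Q (g *ᵥ x) = Q x := by
  refine Submodule.span_induction (p := fun x _ => Q (g *ᵥ x) = Q x) ?_ ?_ ?_ ?_
    (x := x) (by rw [span_pure e P]; exact Submodule.mem_top)
  · rintro _ ⟨u, rfl⟩
    rw [hQ, hs.sing]
  · rw [Matrix.mulVec_zero]
  · intro a b _ _ ha hb
    rw [Matrix.mulVec_add, quad_add' Q, quad_add' Q a b, ha, hb, hB]
  · intro a b _ hb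
    rw [Matrix.mulVec_smul, QuadraticMap.map_smul, QuadraticMap.map_smul, hb]

theorem prod_update_left (u w : Fin t → Fin k → F) (i : Fin t) (x : Fin k → F) :
    ∏ l, f (Function.update u i x l) (w l) = f x (w i) * ∏ l ∈ Finset.univ.erase i, f (u l) (w l) := by
  rw [← Finset.mul_prod_erase Finset.univ _ (Finset.mem_univ i), Function.update_self]
  congr 1
  refine Finset.prod_congr rfl fun l hl => ?_
  rw [Function.update_of_ne (Finset.mem_erase.mp hl).1]

theorem prod_update_right (u w : Fin t → Fin k → F) (i : Fin t) (y : Fin k → F) :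
    ∏ l, f (u l) (Function.update w i y l) = f (u i) y * ∏ l ∈ Finset.univ.erase i, f (u l) (w l) := by
  rw [← Finset.mul_prod_erase Finset.univ _ (Finset.mem_univ i), Function.update_self]
  congr 1
  refine Finset.prod_congr rfl fun l hl => ?_
  rw [Function.update_of_ne (Finset.mem_erase.mp hl).1]

theorem Setup.selfadj (hs : Setup e P Q f alt c) (i : Fin t) {A : Matrix (Fin k) (Fin k) F} (hA : IsW f alt A)
    (x y : ι → F) : polar Q (op e P i A *ᵥ x) y = polar Q x (op e P i A *ᵥ y) := by
  have := polar_ext e P Q (a := op e P i A) (b := 1) (a' := 1) (b' := op e P i A) (fun u w => by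
    rw [Matrix.one_mulVec, Matrix.one_mulVec, op_pure, op_pure, hs.form, hs.form, prod_update_left,
      prod_update_right, hA.1]) x y
  simpa using this

theorem op_mem_opSpan (i : Fin t) {A : Matrix (Fin k) (Fin k) F} (hA : IsW f alt A) :
    op e P i A ∈ opSpan e P f alt :=
  Submodule.subset_span ⟨i, A, hA, rfl⟩

/-- Isometries in the wreath stabiliser preserve the operator space. -/
theorem Setup.wreath_le (hs : Setup e P Q f alt c) {g : GL ι F} (hg : g ∈ wreath e P)
    (hiso : g ∈ Cfsg.isometryGroup F (Q : (ι → F) → F)) : g ∈ conjStab (opSpan e P f alt) := by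
  have hf := hs.symp
  have key : ∀ g : GL ι F, g ∈ wreath e P → g ∈ Cfsg.isometryGroup F (Q : (ι → F) → F) →
      ∀ i A, IsW f alt A → (g : Matrix ι ι F) * op e P i A * ((g⁻¹ : GL ι F) : Matrix ι ι F) ∈ opSpan e P f alt := by
    rintro g ⟨σ, gs, hg⟩ hiso i A hA
    obtain ⟨l, rfl⟩ : ∃ l, σ l = i := ⟨σ.symm i, σ.apply_symm_apply i⟩
    obtain ⟨v, hv⟩ : ∃ v : Fin k → F, v ≠ 0 := by
      rcases Nat.eq_zero_or_pos k with hk | hk
      · subst hk
        exfalso
        obtain ⟨_, S, v, -, -, -, -, hne⟩ := hs.data.seed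
        exact hne (Subsingleton.elim _ _)
      · exact ⟨Pi.single ⟨0, hk⟩ 1, by simp⟩
    obtain ⟨w₀, hw₀⟩ := (hf.nondegenerate v hv).2
    have hvw : f v ((f v w₀)⁻¹ • w₀) = 1 := by rw [hf.bilinear.smul_right, inv_mul_cancel₀ hw₀]
    set w := (f v w₀)⁻¹ • w₀
    set μ := ∏ m ∈ Finset.univ.erase l, f ((gs m : Matrix (Fin k) (Fin k) F) *ᵥ v)
      ((gs m : Matrix (Fin k) (Fin k) F) *ᵥ w) with hμdef
    have hiso' : ∀ y, Q ((g : Matrix ι ι F) *ᵥ y) = Q y := fun y => hiso y 0
    have hμ : ∀ x y, μ * f ((gs l : Matrix (Fin k) (Fin k) F) *ᵥ x) ((gs l : Matrix (Fin k) (Fin k) F) *ᵥ y) =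
        f x y := fun x y => by
      have h := quad_add' Q ((g : Matrix ι ι F) *ᵥ pure e P (Function.update (fun _ => v) (σ l) x))
        ((g : Matrix ι ι F) *ᵥ pure e P (Function.update (fun _ => w) (σ l) y))
      rw [← Matrix.mulVec_add, hiso', hiso', hiso', quad_add' Q, add_right_inj, hg, hg, hs.form, hs.form] at h
      have h' := (mul_left_cancel₀ hs.c_ne h).symm
      rw [← Finset.mul_prod_erase Finset.univ _ (Finset.mem_univ l),
        ← Finset.mul_prod_erase Finset.univ (fun m => f (Function.update (fun _ => v) (σ l) x m)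
          (Function.update (fun _ => w) (σ l) y m)) (Finset.mem_univ (σ l))] at h'
      simp only [Function.update_self] at h'
      rw [Finset.prod_eq_one (s := Finset.univ.erase (σ l)), mul_one] at h'
      · rw [← h', mul_comm μ, hμdef]
        congr 1
        refine Finset.prod_congr rfl fun m hm => ?_
        have hne : σ m ≠ σ l := σ.injective.ne (Finset.mem_erase.mp hm).1
        rw [Function.update_of_ne hne, Function.update_of_ne hne]
      · intro m hm
        rw [Function.update_of_ne (Finset.mem_erase.mp hm).1, Function.update_of_ne (Finset.mem_erase.mp hm).1, hvw]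
    have hμ0 : μ ≠ 0 := fun h => by
      have := hμ v w
      rw [h, zero_mul, hvw] at this
      exact zero_ne_one this
    rw [show (g : Matrix ι ι F) * op e P (σ l) A = op e P l ((gs l : Matrix (Fin k) (Fin k) F) * A *
        ((gs l)⁻¹ : GL (Fin k) F).1) * (g : Matrix ι ι F) from ext_pure e P fun u => by
      rw [← Matrix.mulVec_mulVec, ← Matrix.mulVec_mulVec, op_pure, hg, hg, op_pure]
      congr 1
      funext m
      by_cases hm : m = l
      · subst hm
        rw [Function.update_self, Function.update_self, Matrix.mulVec_mulVec, Matrix.mulVec_mulVec, mul_assoc,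
          ← Units.val_mul, inv_mul_cancel, Units.val_one, mul_one]
      · rw [Function.update_of_ne hm, Function.update_of_ne (σ.injective.ne hm)],
      mul_assoc, ← Units.val_mul, mul_inv_cancel, Units.val_one, mul_one]
    exact op_mem_opSpan l (hA.conj hf (gs l) hμ0 hμ)
  refine mem_conjStab ?_ ?_
  · rintro _ ⟨i, A, hA, rfl⟩
    exact key g hg hiso i A hA
  · rintro _ ⟨i, A, hA, rfl⟩
    simpa [opSpan] using key g⁻¹ (inv_mem hg) (inv_mem hiso) i A hA

/-- The operator of an invertible matrix on one factor. -/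
def opUnit (i : Fin t) (S : GL (Fin k) F) : GL ι F :=
  ⟨op e P i (S : Matrix (Fin k) (Fin k) F), op e P i ((S⁻¹ : GL (Fin k) F) : Matrix (Fin k) (Fin k) F),
    by rw [op_mul, ← Units.val_mul, mul_inv_cancel, Units.val_one, op_one],
    by rw [op_mul, ← Units.val_mul, inv_mul_cancel, Units.val_one, op_one]⟩

/-- The product of two nilpotent operators on different factors gives an isometry. -/
theorem Setup.exists_involution (hs : Setup e P Q f alt c) {i j : Fin t} (hij : i ≠ j)
    {A : Matrix (Fin k) (Fin k) F} (hA : IsW f alt A) (hA2 : A * A = 0) :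
    ∃ a : GL ι F, (a : Matrix ι ι F) = 1 + op e P i A * op e P j A ∧ a⁻¹ = a ∧
      a ∈ Cfsg.isometryGroup F (Q : (ι → F) → F) ∧ a ∈ conjStab (opSpan e P f alt) := by
  have two : ∀ x : Matrix ι ι F, x + x = 0 := fun x => by rw [← two_smul F, hs.two, zero_smul]
  set N := op e P i A * op e P j A with hN
  have hNN : N * N = 0 := by
    rw [hN, mul_assoc, ← mul_assoc (op e P j A), ← op_comm e P hij, ← mul_assoc, ← mul_assoc, op_mul, hA2, op_zero,
      zero_mul, zero_mul]
  have hsq : (1 + N) * (1 + N) = 1 := by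
    rw [add_mul, one_mul, mul_add, mul_one, hNN, add_zero, add_assoc, two, add_zero]
  refine ⟨⟨1 + N, 1 + N, hsq, hsq⟩, rfl, Units.ext rfl, fun x _ => ?_, ?_⟩
  · have hadj : ∀ x y, polar Q (N *ᵥ x) y = polar Q x (N *ᵥ y) := fun x y => by
      rw [hN, ← Matrix.mulVec_mulVec, hs.selfadj i hA, hs.selfadj j hA, Matrix.mulVec_mulVec,
        ← op_comm e P hij]
    show Q ((1 + N) *ᵥ x) = Q x
    refine hs.isometry (g := 1 + N) (fun x y => ?_) (fun u => ?_) x
    · show polar Q ((1 + N) *ᵥ x) ((1 + N) *ᵥ y) = _
      simp only [Matrix.add_mulVec, Matrix.one_mulVec, polar_add_left, polar_add_right, hadj]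
      rw [Matrix.mulVec_mulVec, hNN, Matrix.zero_mulVec, polar_zero_right]
      linear_combination (polar Q x (N *ᵥ y)) * hs.two
    · show Q ((1 + N) *ᵥ pure e P u) = 0
      rw [Matrix.add_mulVec, Matrix.one_mulVec, hN, ← Matrix.mulVec_mulVec, op_pure, op_pure, quad_add' Q, hs.sing,
        hs.sing, hs.form, zero_add, zero_add, mul_eq_zero_iff_left hs.c_ne, Function.update_of_ne hij]
      rcases hs.halt with ha | ht
      · refine Finset.prod_eq_zero (Finset.mem_univ i) ?_
        rw [Function.update_self, ← hA.1]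
        exact hA.2.1 ha _
      · obtain ⟨l, hl⟩ : ∃ l, l ∉ ({i, j} : Finset (Fin t)) := by
          obtain ⟨l, -, hl⟩ := Finset.exists_mem_notMem_of_card_lt_card (t := (Finset.univ : Finset (Fin t)))
            (s := {i, j}) (by rw [Finset.card_pair hij, Finset.card_fin]; omega)
          exact ⟨l, hl⟩
        simp only [Finset.mem_insert, Finset.mem_singleton, not_or] at hl
        refine Finset.prod_eq_zero (Finset.mem_univ l) ?_
        rw [Function.update_of_ne hl.1, Function.update_of_ne hl.2]
        exact hs.symp.alternating _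
  · have key : ∀ {p q : Fin t}, p ≠ q → ∀ D, IsW f alt D →
        (1 + op e P p A * op e P q A) * op e P p D * (1 + op e P p A * op e P q A) ∈ opSpan e P f alt := by
      intro p q hpq D hD
      obtain ⟨β, hβ⟩ := IsW.bracket hs.symp hs.data hA hD
      have h1 : op e P p A * op e P q A * op e P p D = op e P p (A * D) * op e P q A := by
        rw [mul_assoc, ← op_comm e P hpq, ← mul_assoc, op_mul]
      have h2 : op e P p D * (op e P p A * op e P q A) = op e P p (D * A) * op e P q A := by
        rw [← mul_assoc, op_mul]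
      have h3 : op e P p (A * D) * op e P q A * (op e P p A * op e P q A) = 0 := by
        rw [mul_assoc, ← mul_assoc (op e P q A), ← op_comm e P hpq, mul_assoc (op e P p A), op_mul, hA2, op_zero,
          mul_zero, mul_zero]
      rw [add_mul, one_mul, h1, mul_add, mul_one, add_mul, h3, add_zero, h2, add_assoc, ← add_mul, ← op_add, hβ,
        op_smul, op_one, Matrix.smul_mul, one_mul]
      exact add_mem (op_mem_opSpan p hD) (Submodule.smul_mem _ _ (op_mem_opSpan q hA))
    have hconj : ∀ M ∈ {M | ∃ i A, IsW f alt A ∧ M = op e P i A}, (1 + N) * M * (1 + N) ∈ opSpan e P f alt := by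
      rintro _ ⟨l, D, hD, rfl⟩
      by_cases hli : l = i
      · subst hli; exact key hij D hD
      by_cases hlj : l = j
      · subst hlj
        rw [hN, op_comm e P hij]
        exact key hij.symm D hD
      · rw [show (1 + N) * op e P l D = op e P l D * (1 + N) by
          rw [add_mul, one_mul, mul_add, mul_one, hN, mul_assoc, ← op_comm e P hlj, ← mul_assoc,
            ← op_comm e P hli, mul_assoc], mul_assoc, hsq, mul_one]
        exact op_mem_opSpan l hD
    exact mem_conjStab hconj hconj

/-- The stabiliser of the operator space gives a subgroup between. -/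
theorem Setup.exists_between [Fintype F] (hs : Setup e P Q f alt c) {Qf : (ι → F) → F} (hQf : ∀ v, Qf v = Q v)
    (hQ : (QuadraticMap.polarBilin Q).Nondegenerate) (hn : 13 ≤ Fintype.card ι) :
    ∃ K : Subgroup (GL ι F), Cfsg.Geo.tensorWreathSubgroup k t e P ⊓ Cfsg.Geo.omegaGL Qf < K ∧
      K < Cfsg.Geo.omegaGL Qf := by
  classical
  obtain rfl : Qf = ⇑Q := funext hQf
  have hf := hs.symp
  obtain ⟨A, S, v, hA, hA2, hSf, hAv, hASv⟩ := hs.data.seed
  set x := (S : Matrix (Fin k) (Fin k) F) *ᵥ v with hx
  have hind : ∀ a b : F, a • (A *ᵥ x) + b • x = 0 → a = 0 ∧ b = 0 := fun a b h => by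
    have h' := congrArg (A *ᵥ ·) h
    simp only [Matrix.mulVec_add, Matrix.mulVec_smul, Matrix.mulVec_mulVec, hA2, Matrix.zero_mulVec, smul_zero,
      zero_add, Matrix.mulVec_zero] at h'
    have hb : b = 0 := (smul_eq_zero.1 h').resolve_right hASv
    rw [hb, zero_smul, add_zero] at h
    exact ⟨(smul_eq_zero.1 h).resolve_right hASv, hb⟩
  obtain ⟨p, hp1, hp0⟩ := exists_dual hf hind
  obtain ⟨p', hp1', hp0'⟩ := exists_dual (x := x) (z := A *ᵥ x) hf fun a b h => (hind b a (by rwa [add_comm])).symm
  set i : Fin t := ⟨0, by linarith [hs.le]⟩ with hidef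
  set j : Fin t := ⟨1, by linarith [hs.le]⟩ with hjdef
  have hij : i ≠ j := by simp [hidef, hjdef]
  have hmem_iso : ∀ {g : GL ι F}, g ∈ Cfsg.Geo.omegaGL (Q : (ι → F) → F) →
      g ∈ Cfsg.isometryGroup F (Q : (ι → F) → F) := by
    rintro g ⟨y, -, rfl⟩; exact y.2
  -- the element inside
  have two : ∀ x : Matrix ι ι F, x + x = 0 := fun x => by rw [← two_smul F, hs.two, zero_smul]
  set h : GL ι F := opUnit (e := e) (P := P) i S with hh
  have hhw : h ∈ wreath e P := ⟨1, Function.update (fun _ => 1) i S, fun u => by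
    rw [hh, opUnit, op_pure]
    congr 1
    funext l
    by_cases hl : l = i
    · subst hl; rw [Function.update_self, Function.update_self]; rfl
    · rw [Function.update_of_ne hl, Function.update_of_ne hl]; simp⟩
  have hhi : h ∈ Cfsg.isometryGroup F (Q : (ι → F) → F) := fun y _ => by
    refine hs.isometry (g := (h : Matrix ι ι F)) (fun y z => ?_) (fun u => ?_) y
    · refine (polar_ext e P Q (a' := 1) (b' := 1) (fun u w => ?_) y z).trans (by simp)
      rw [Matrix.one_mulVec, Matrix.one_mulVec, hh, opUnit, op_pure, op_pure, hs.form, hs.form, prod_update_left,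
        ← Finset.mul_prod_erase Finset.univ (fun l => f (u l) (w l)) (Finset.mem_univ i), Function.update_self, hSf]
      congr 2
      refine Finset.prod_congr rfl fun l hl => ?_
      rw [Function.update_of_ne (Finset.mem_erase.mp hl).1]
    · rw [hh, opUnit, op_pure]; exact hs.sing _
  obtain ⟨a, ha, hainv, hai, has⟩ := hs.exists_involution hij hA hA2
  have hhs := hs.wreath_le hhw hhi
  set u : GL ι F := ⁅h, a⁆ with hu
  have huK : u ∈ conjStab (opSpan e P f alt) ⊓ Cfsg.Geo.omegaGL (Q : (ι → F) → F) := by
    refine ⟨?_, ⁅(⟨h, hhi⟩ : Cfsg.isometryGroup F (Q : (ι → F) → F)), ⟨a, hai⟩⁆, ?_, by simp [hu]⟩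
    · show u ∈ conjStab (opSpan e P f alt)
      rw [hu, commutatorElement_def]
      exact mul_mem (mul_mem (mul_mem hhs has) (inv_mem hhs)) (inv_mem has)
    · exact Subgroup.commutator_mem_commutator (Subgroup.mem_top _) (Subgroup.mem_top _)
  set A' := (S : Matrix (Fin k) (Fin k) F) * A * ((S⁻¹ : GL (Fin k) F) : Matrix (Fin k) (Fin k) F) with hA'
  have hA'x : A' *ᵥ x = 0 := by
    rw [hA', hx, Matrix.mulVec_mulVec, mul_assoc, ← Units.val_mul, inv_mul_cancel, Units.val_one, mul_one,
      ← Matrix.mulVec_mulVec, hAv, Matrix.mulVec_zero]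
  have huval : (u : Matrix ι ι F) = 1 + op e P i (A' + A) * op e P j A := by
    rw [hu, commutatorElement_def, hainv, Units.val_mul, Units.val_mul, Units.val_mul, ha]
    show op e P i (S : Matrix (Fin k) (Fin k) F) * _ * op e P i ((S⁻¹ : GL (Fin k) F) : Matrix (Fin k) (Fin k) F) * _ = _
    rw [mul_add (op e P i (S : Matrix (Fin k) (Fin k) F)), mul_one, add_mul (op e P i (S : Matrix (Fin k) (Fin k) F)),
      op_mul, ← Units.val_mul, mul_inv_cancel, Units.val_one, op_one, ← mul_assoc, op_mul,
      mul_assoc (op e P i _), ← op_comm e P hij, ← mul_assoc, op_mul, ← hA', mul_add, mul_one, add_mul, one_mul,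
      ← mul_assoc, mul_assoc (op e P i A'), ← op_comm e P hij, ← mul_assoc, op_mul, mul_assoc (op e P i _), op_mul,
      hA2, op_zero, mul_zero, add_zero, op_add, add_mul]
    abel
  obtain ⟨w₀, hw₀⟩ := (hf.nondegenerate x (fun h0 => hASv (by rw [h0, Matrix.mulVec_zero]))).2
  set b := (f x w₀)⁻¹ • w₀ with hbdef
  have hb : f x b = 1 := by rw [hbdef, hf.bilinear.smul_right, inv_mul_cancel₀ hw₀]
  have huW : u ∉ wreath e P := by
    rintro ⟨σ, gs, hg⟩
    have h0 := hg fun _ => x
    set z : Fin t → Fin k → F := fun l => (gs l : Matrix (Fin k) (Fin k) F) *ᵥ x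
    rw [huval, Matrix.add_mulVec, Matrix.one_mulVec, ← Matrix.mulVec_mulVec, op_pure, op_pure,
      Function.update_of_ne hij, Matrix.add_mulVec, hA'x, zero_add] at h0
    set R := ∏ l ∈ (Finset.univ.erase i).erase j, f (z l) b with hR
    have hjm : j ∈ Finset.univ.erase i := Finset.mem_erase.2 ⟨hij.symm, Finset.mem_univ j⟩
    have hval : ∀ q r, f x q * f x r + f (A *ᵥ x) q * f (A *ᵥ x) r = f (z i) q * (f (z j) r * R) := fun q r => by
      have h1 := congrArg (polar Q · (pure e P (Function.update (Function.update (fun _ => b) j r) i q))) h0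
      simp only [polar_add_left, hs.form, ← mul_add] at h1
      have h2 := mul_left_cancel₀ hs.c_ne h1
      simp only [prod_update_right, Function.update_self] at h2
      rw [← Finset.mul_prod_erase _ _ hjm, ← Finset.mul_prod_erase _ _ hjm, ← Finset.mul_prod_erase _ _ hjm,
        Function.update_self, Function.update_of_ne hij.symm, Function.update_self] at h2
      rw [Finset.prod_eq_one, Finset.prod_eq_one, mul_one, mul_one] at h2
      · rw [h2, hR]
        congr 2
        refine Finset.prod_congr rfl fun l hl => ?_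
        rw [Function.update_of_ne (Finset.mem_erase.mp hl).1]
      all_goals
        intro l hl
        obtain ⟨hlj, hl'⟩ := Finset.mem_erase.mp hl
        rw [Function.update_of_ne hlj]
        try rw [Function.update_of_ne (Finset.mem_erase.mp hl').1, Function.update_of_ne hlj]
        exact hb
    have e00 := hval p' p'
    have e01 := hval p' p
    have e11 := hval p p
    rw [hp1', hp0'] at e00
    rw [hp1', hp0', hp0, hp1] at e01
    rw [hp0, hp1] at e11
    simp only [mul_one, mul_zero, add_zero, zero_add] at e00 e01 e11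
    have hb1 : f (z j) p * R = 0 := by
      refine (mul_eq_zero.1 e01.symm).resolve_left fun h => ?_
      rw [h, zero_mul] at e00
      exact one_ne_zero e00
    rw [hb1, mul_zero] at e11
    exact one_ne_zero e11
  -- the element outside
  have hn5 : 5 ≤ finrank F (ι → F) := by simp; omega
  obtain ⟨hyp⟩ := exists_hypPairs hQ hn5
  have h4 : Good F (ι → F) := good_of (Or.inr (by simp; omega))
  set vv : Fin t → Fin k → F := fun _ => x with hvv
  set dd : Fin t → Fin k → F := Function.update (fun _ => b) i p with hdd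
  set ww : Fin t → Fin k → F := Function.update (Function.update vv i (A *ᵥ x)) j b with hww
  set zz : Fin t → Fin k → F := Function.update dd j x with hzz
  have hne : ∀ l, f (dd l) (vv l) ≠ 0 ∨ l = i := fun l => by
    by_cases hl : l = i
    · exact Or.inr hl
    · left
      rw [hdd, Function.update_of_ne hl, hf.skew, hvv, hb]
      simp
  have hskew : ∀ {y z : Fin k → F}, f y z = 0 → f z y = 0 := fun {y z} h => by rw [hf.skew, h, neg_zero]
  have hdw : polar Q (pure e P dd) (pure e P ww) = 0 := by
    rw [hs.form, Finset.prod_eq_zero (Finset.mem_univ j), mul_zero]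
    rw [hdd, hww, Function.update_of_ne hij.symm, Function.update_self, hf.alternating]
  obtain ⟨g, hg⟩ := exists_isSiegel hQ (hs.sing dd) hdw
  set s : GL ι F := orthToGL Q hQf g with hsdef
  have hsΩ : s ∈ Cfsg.Geo.omegaGL (Q : (ι → F) → F) := by
    rw [omegaGL_eq Q hQf]
    exact Subgroup.mem_map_of_mem _ (hg.mem_commutator hQ h4 hyp hn5)
  have hmv : ∀ y : ι → F, (s : Matrix ι ι F) *ᵥ y = g.1 y := fun y => matOf_mulVec Q g y
  have hsfix : (s : Matrix ι ι F) *ᵥ pure e P vv = pure e P vv := by
    have h1 : polar Q (pure e P dd) (pure e P vv) = 0 := by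
      rw [hs.form, Finset.prod_eq_zero (Finset.mem_univ i), mul_zero]
      rw [hdd, hvv, Function.update_self]
      exact hskew hp0
    have h2 : polar Q (pure e P ww) (pure e P vv) = 0 := by
      rw [hs.form]
      rcases hs.halt with hal | ht
      · rw [Finset.prod_eq_zero (Finset.mem_univ i), mul_zero]
        rw [hww, hvv, Function.update_of_ne hij, Function.update_self]
        exact hA.2.1 hal x
      · obtain ⟨l, -, hl⟩ := Finset.exists_mem_notMem_of_card_lt_card (t := (Finset.univ : Finset (Fin t)))
          (s := {i, j}) (by rw [Finset.card_pair hij, Finset.card_fin]; omega)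
        simp only [Finset.mem_insert, Finset.mem_singleton, not_or] at hl
        rw [Finset.prod_eq_zero (Finset.mem_univ l), mul_zero]
        rw [hww, hvv, Function.update_of_ne hl.2, Function.update_of_ne hl.1, hf.alternating]
    rw [hmv, hg.2.2, h1, h2, zero_smul, mul_zero, neg_zero, sub_zero, zero_smul, add_zero, add_zero]
  have hsM : s ∉ conjStab (opSpan e P f alt) := fun hmem => by
    set M := op e P i A with hM
    have hMv : M *ᵥ pure e P vv = pure e P (Function.update vv i (A *ᵥ x)) := op_pure ..
    set φ : Matrix ι ι F →ₗ[F] F :=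
      { toFun := fun X => polar Q (X *ᵥ pure e P vv) (pure e P zz)
        map_add' := fun X Y => by rw [Matrix.add_mulVec, polar_add_left]
        map_smul' := fun r X => by
          rw [Matrix.smul_mulVec, polar_smul_left]; rfl } with hφ
    have hφW : ∀ X ∈ opSpan e P f alt, φ X = 0 := by
      intro X hX
      refine Submodule.span_induction (p := fun X _ => φ X = 0) ?_ (map_zero φ) ?_ ?_ hX
      · rintro _ ⟨l, D, hD, rfl⟩
        show polar Q (op e P l D *ᵥ pure e P vv) (pure e P zz) = 0
        rw [op_pure, hs.form]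
        by_cases hl : l = j
        · rw [Finset.prod_eq_zero (Finset.mem_univ i), mul_zero]
          rw [hl, Function.update_of_ne hij, hzz, Function.update_of_ne hij, hdd, Function.update_self]
          exact hp0
        · rw [Finset.prod_eq_zero (Finset.mem_univ j), mul_zero]
          rw [Function.update_of_ne (Ne.symm hl), hzz, Function.update_self]
          exact hf.alternating x
      · intro X Y _ _ hX hY; rw [map_add, hX, hY, add_zero]
      · intro r X _ hX; rw [map_smul, hX, smul_zero]
    have hinv : ((s⁻¹ : GL ι F) : Matrix ι ι F) *ᵥ pure e P vv = pure e P vv := by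
      conv_lhs => rw [← hsfix]
      rw [Matrix.mulVec_mulVec, ← Units.val_mul, inv_mul_cancel, Units.val_one, Matrix.one_mulVec]
    have hz := hφW _ ((hmem M).1 (op_mem_opSpan i hA))
    have h3 : polar Q (pure e P ww) (M *ᵥ pure e P vv) = 0 := by
      rw [hMv, hs.form, Finset.prod_eq_zero (Finset.mem_univ i), mul_zero]
      rw [hww, Function.update_of_ne hij, Function.update_self, hf.alternating]
    have h4' : polar Q (M *ᵥ pure e P vv) (pure e P zz) = 0 := hφW _ (op_mem_opSpan i hA)
    have h5 : polar Q (pure e P dd) (M *ᵥ pure e P vv) ≠ 0 := by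
      rw [hMv, hs.form]
      refine mul_ne_zero hs.c_ne (Finset.prod_ne_zero_iff.2 fun l _ => ?_)
      rcases hne l with hl | hl
      · by_cases hl' : l = i
        · subst hl'; rw [Function.update_self, hdd, Function.update_self, hf.skew, hp1]; simp
        · rwa [Function.update_of_ne hl']
      · subst hl; rw [Function.update_self, hdd, Function.update_self, hf.skew, hp1]; simp
    have h6 : polar Q (pure e P ww) (pure e P zz) ≠ 0 := by
      rw [hs.form]
      refine mul_ne_zero hs.c_ne (Finset.prod_ne_zero_iff.2 fun l _ => ?_)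
      by_cases hl : l = j
      · subst hl; rw [hww, hzz, Function.update_self, Function.update_self, hf.skew, hb]; simp
      rw [hww, hzz, Function.update_of_ne hl, Function.update_of_ne hl]
      by_cases hl' : l = i
      · subst hl'; rw [hdd, Function.update_self, Function.update_self, hp1]; simp
      · rw [hdd, Function.update_of_ne hl', Function.update_of_ne hl', hvv, hb]; simp
    change polar Q (((s : Matrix ι ι F) * M * ((s⁻¹ : GL ι F) : Matrix ι ι F)) *ᵥ pure e P vv) (pure e P zz) = 0 at hz
    rw [← Matrix.mulVec_mulVec, hinv, ← Matrix.mulVec_mulVec, hmv, hg.2.2, h3, hs.sing, polar_add_left,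
      polar_add_left, h4', polar_smul_left, polar_smul_left, zero_mul, neg_zero, sub_zero, zero_smul, add_zero,
      zero_add, smul_eq_mul] at hz
    exact mul_ne_zero h5 h6 hz
  refine ⟨conjStab (opSpan e P f alt) ⊓ Cfsg.Geo.omegaGL (Q : (ι → F) → F),
    lt_of_le_not_ge (fun g hg' => ⟨hs.wreath_le (tensorWreath_le_wreath e P hg'.1) (hmem_iso hg'.2), hg'.2⟩)
      fun hle => huW (tensorWreath_le_wreath e P (hle huK).1),
    lt_of_le_not_ge inf_le_right fun hle => hsM (hle hsΩ).1⟩

end CfsgLib.Classical.TensorPower
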